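import Groth.Agent.MeroLib.ZeroScheme
import Groth.Agent.S1684
import Groth.Agent.IntMultLib.Cartier
import Groth.Agent.SurfNumLib.IdealMul
import Groth.Agent.AmpleThLib.Pow
import Groth.Agent.RegUFDLib.Basic
import Groth.Agent.DevissLib.ClosedImm

/-!
# An irreducible divisor is a multiple of its reduction
-/

set_option autoImplicit false
set_option maxHeartbeats 1000000
set_option linter.style.haveILetI false
set_option backward.isDefEq.respectTransparency false
set_option backward.isDefEq.respectTransparency.types false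
universe u

open CategoryTheory CategoryTheory.Limits AlgebraicGeometry TopologicalSpace Opposite
open AmpleLib (res res_res res_smul shT GenOn)
open AmpleThLib (pS)
open SurfNumLib (val val_res val_smul)

noncomputable section

namespace ThetaRedLib

variable {X : Scheme.{u}} [IsIntegral X]

theorem isDomain_sec {Y : Scheme.{u}} [IsIntegral Y] (U : Y.Opens) {x : Y} (hx : x ∈ U) : IsDomain Γ(Y, U) :=
  @IsIntegral.component_integral Y _ U ⟨⟨x, hx⟩⟩

theorem exists_associated_pow {R : Type u} [CommRing R] [IsDomain R] {f c : R} (hf : Prime f)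
    (hc : (Ideal.span {c}).radical = Ideal.span {f}) : ∃ m : ℕ, 0 < m ∧ Associated c (f ^ m) := by
  obtain ⟨N, hN⟩ : ∃ N, f ^ N ∈ Ideal.span {c} := hc.symm ▸ Ideal.mem_span_singleton_self f
  obtain ⟨i, -, hi⟩ := (dvd_prime_pow hf N).1 (Ideal.mem_span_singleton.1 hN)
  refine ⟨i, Nat.pos_of_ne_zero fun h => hf.not_unit ?_, hi⟩
  subst h
  rw [pow_zero, associated_one_iff_isUnit] at hi
  have h1 := hc
  rw [Ideal.span_singleton_eq_top.2 hi, Ideal.radical_top] at h1
  exact Ideal.span_singleton_eq_top.1 h1.symm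

theorem not_mem_support_of_ideal_eq_top (I : X.IdealSheafData) (U : X.affineOpens) (h : I.ideal U = ⊤)
    {x : X} (hx : x ∈ U.1) : x ∉ I.support := by
  intro hs
  have h1 := (Scheme.IdealSheafData.mem_supportSet_iff_of_mem hx).1 hs
  exact (Scheme.mem_zeroLocus_iff (X := X) (U := U.1) (s := (I.ideal U : Set Γ(X, U.1))) x).1 h1 1 (h ▸ trivial)
    (by rw [X.basicOpen_of_isUnit isUnit_one]; exact hx)

theorem ideal_cases (I : X.IdealSheafData) [IsIntegral I.subscheme] (U : X.affineOpens) :
    (I.subschemeι (genericPoint ↥I.subscheme) ∈ U.1 ∧ (I.ideal U).IsPrime) ∨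
      (I.subschemeι (genericPoint ↥I.subscheme) ∉ U.1 ∧ I.ideal U = ⊤) := by
  by_cases h : I.subschemeι (genericPoint ↥I.subscheme) ∈ U.1
  · refine Or.inl ⟨h, ?_⟩
    haveI : Nonempty ↥(I.subschemeι ⁻¹ᵁ U.1) := ⟨⟨_, h⟩⟩
    haveI : IsDomain Γ(I.subscheme, I.subschemeι ⁻¹ᵁ U.1) := isDomain_sec _ h
    rw [← I.ker_subschemeι_app U]
    exact RingHom.ker_isPrime _
  · refine Or.inr ⟨h, ?_⟩
    have he : I.subschemeι ⁻¹ᵁ U.1 = ⊥ := by
      refine Opens.ext (Set.eq_empty_iff_forall_notMem.2 fun y hy => h ?_)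
      exact ((genericPoint_spec ↥I.subscheme).mem_open_set_iff (I.subschemeι ⁻¹ᵁ U.1).2).2 ⟨y, trivial, hy⟩
    haveI : Subsingleton Γ(I.subscheme, I.subschemeι ⁻¹ᵁ U.1) := by
      rw [he]; infer_instance
    rw [← I.ker_subschemeι_app U]
    exact eq_top_iff.2 fun a _ => RingHom.mem_ker.2 (Subsingleton.elim _ _)

/-- An irreducible zero scheme on a regular integral scheme: the line bundle is a power of the reduced divisor,
and a first power means a reduced zero scheme. -/
theorem exists_power [IsLocallyNoetherian X] (hreg : ∀ x : X, IsRegularLocalRing (X.presheaf.stalk x))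
    {L : X.Modules} (hL : PicF.IsInvertible L) (s : Coh.structureModule X ⟶ L) (hs : s ≠ 0)
    [IrreducibleSpace ↥(PicF2.zeroScheme L s).subscheme] :
    ∃ (z : X), ringKrullDim (X.presheaf.stalk z) = 1 ∧
    ∃ (K : X.Modules) (_ : PicF.IsInvertible K) (m : ℕ), 0 < m ∧
      Nonempty (CohB1.tensorMod L (CohB1.tensorPow K m) ≅ Coh.structureModule X) ∧
      (m = 1 → IsReduced (PicF2.zeroScheme L s).subscheme) := by
  classical
  let I₀ := PicF2.zeroScheme L s
  let I := I₀.radical
  haveI : IsReduced I.subscheme := by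
    show IsReduced I₀.radical.subscheme
    rw [← Scheme.IdealSheafData.vanishingIdeal_support]
    exact DevissLib.isReduced_vanishingIdeal' _
  haveI : IrreducibleSpace I.subscheme := by
    have hr : Set.range I₀.subschemeι = Set.range I.subschemeι := by
      rw [I₀.range_subschemeι, I.range_subschemeι]
      rfl
    let e : ↥I₀.subscheme ≃ₜ ↥I.subscheme := (I₀.subschemeι.isEmbedding.toHomeomorph.trans
      (Homeomorph.setCongr hr)).trans I.subschemeι.isEmbedding.toHomeomorph.symm
    rw [irreducibleSpace_def, Set.top_eq_univ]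
    have := ((irreducibleSpace_def _).1 ‹IrreducibleSpace ↥I₀.subscheme›).image e e.continuous.continuousOn
    rwa [Set.top_eq_univ, Set.image_univ, e.surjective.range_eq] at this
  haveI : IsIntegral I.subscheme := isIntegral_of_irreducibleSpace_of_isReduced _
  let z := I.subschemeι (genericPoint ↥I.subscheme)
  have hzS : z ∈ I.support := by
    rw [← SetLike.mem_coe, ← I.range_subschemeι]
    exact ⟨_, rfl⟩
  haveI : Mono s := CurvLib.mono_of_ne_zero CurvLib.isInvertible_structureModule hL hs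
  -- the section in a chart
  have hc0 : ∀ (U : X.affineOpens) [Nonempty ↥U.1] (g : Γ(L, U.1)) (c : Γ(X, U.1)),
      c • g = MeroLib.secOn s U.1 → c ≠ 0 := by
    intro U _ g c hc hc0
    rw [hc0, zero_smul] at hc
    have h2 := QCohLib.app_injective_of_mono s U.1 (a₁ := (1 : Γ(X, U.1))) (a₂ := 0)
      (hc.symm.trans (map_zero (s.app U.1).hom).symm)
    exact one_ne_zero (α := Γ(X, U.1)) h2
  have hchart : ∀ (U : X.affineOpens) (g : Γ(L, U.1)), GenOn L g →
      ∃ c : Γ(X, U.1), c • g = MeroLib.secOn s U.1 ∧ I₀.ideal U = Ideal.span {c} ∧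
        I.ideal U = (Ideal.span {c}).radical := by
    intro U g hg
    obtain ⟨c, hc⟩ := (hg U.1 le_rfl).2 (MeroLib.secOn s U.1)
    simp only [AmpleLib.res_refl] at hc
    have h := MeroLib.zeroScheme_ideal_of_genOn hL s hg hc
    refine ⟨c, hc, h, ?_⟩
    show I₀.radical.ideal U = _
    rw [Scheme.IdealSheafData.radical_ideal]
    exact congrArg Ideal.radical h
  have hdim : ringKrullDim (X.presheaf.stalk z) = 1 := by
    obtain ⟨W, e, hzW, he⟩ := TwistLib.exists_genOn hL z
    obtain ⟨U, hU, hzU, hle⟩ := Opens.isBasis_iff_nbhd.mp X.isBasis_affineOpens hzW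
    obtain ⟨c, hc, -, hI⟩ := hchart ⟨U, hU⟩ (res L hle e) (he.res hle)
    haveI : Nonempty ↥U := ⟨⟨z, hzU⟩⟩
    haveI : IsDomain Γ(X, U) := isDomain_sec U hzU
    have hcne := hc0 ⟨U, hU⟩ _ c hc
    haveI : IsNoetherianRing Γ(X, U) := IsLocallyNoetherian.component_noetherian ⟨U, hU⟩
    let p := hU.primeIdealOf ⟨z, hzU⟩
    rcases ideal_cases I ⟨U, hU⟩ with ⟨-, hP⟩ | ⟨h, -⟩
    swap; · exact absurd hzU h
    have hp : p.asIdeal = I.ideal ⟨U, hU⟩ := by
      refine le_antisymm ?_ ?_
      · intro a ha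
        rw [← I.ker_subschemeι_app ⟨U, hU⟩, RingHom.mem_ker]
        by_contra hne
        have hgen : genericPoint ↥I.subscheme ∈ I.subscheme.basicOpen (I.subschemeι.app U a) := by
          refine ((genericPoint_spec ↥I.subscheme).mem_open_set_iff (I.subscheme.basicOpen _).2).2 ?_
          by_contra hemp
          have hb : I.subscheme.basicOpen (I.subschemeι.app U a) = ⊥ :=
            Opens.ext (Set.eq_empty_iff_forall_notMem.2 fun y hy => hemp ⟨y, trivial, hy⟩)
          exact hne (eq_zero_of_basicOpen_eq_bot _ hb)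
        rw [← Scheme.preimage_basicOpen] at hgen
        have h1 : hU.fromSpec p ∈ X.basicOpen a := by rw [hU.fromSpec_primeIdealOf]; exact hgen
        have h2 : p ∈ hU.fromSpec ⁻¹ᵁ X.basicOpen a := h1
        rw [hU.fromSpec_preimage_basicOpen] at h2
        exact h2 ha
      · intro a ha
        by_contra hne
        have h2 : p ∈ hU.fromSpec ⁻¹ᵁ X.basicOpen a := by rw [hU.fromSpec_preimage_basicOpen]; exact hne
        have h1 : z ∈ X.basicOpen a := by
          have : hU.fromSpec p ∈ X.basicOpen a := h2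
          rwa [hU.fromSpec_primeIdealOf] at this
        exact (Scheme.mem_zeroLocus_iff (X := X) (U := U) (s := (I.ideal ⟨U, hU⟩ : Set Γ(X, U))) z).1
          ((Scheme.IdealSheafData.mem_supportSet_iff_of_mem hzU).1 hzS) a ha h1
    rw [hI] at hp
    haveI : p.asIdeal.IsPrime := p.2
    letI := X.presheaf.algebra_section_stalk (⟨z, hzU⟩ : U)
    haveI : IsLocalization.AtPrime (X.presheaf.stalk z) p.asIdeal := hU.isLocalization_stalk ⟨z, hzU⟩
    rw [IsLocalization.AtPrime.ringKrullDim_eq_height p.asIdeal (X.presheaf.stalk z)]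
    have hle1 : p.asIdeal.height ≤ 1 := by
      refine Ideal.height_le_one_of_isPrincipal_of_mem_minimalPrimes (Ideal.span {c}) _ ?_
      rw [← Ideal.radical_minimalPrimes, ← hp, Ideal.minimalPrimes_eq_subsingleton_self]
      rfl
    have hne0 : p.asIdeal.height ≠ 0 := by
      rw [Ne, Ideal.height_eq_zero_iff_eq_bot]
      intro hb
      refine hcne ?_
      have : c ∈ p.asIdeal := hp ▸ Ideal.le_radical (Ideal.mem_span_singleton_self c)
      rwa [hb, Ideal.mem_bot] at this
    rw [le_antisymm hle1 (Order.one_le_iff_pos.2 (pos_iff_ne_zero.2 hne0))]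
    rfl
  have hI : BlowUp.IsEffCartierIdeal I := Groth.Agent.S1684.result X I hdim fun x _ => by
    haveI := hreg x
    exact ⟨CommAlgDim.isDomain_of_isRegularLocalRing _, RegUFDLib.uniqueFactorizationMonoid _⟩
  let K := ClSub.idealMod I
  have hK : PicF.IsInvertible K := IntMultLib.isInvertible_idealMod I hI
  -- charts
  have hbase : ∀ x : X, ∃ (U : X.affineOpens) (g : Γ(L, U.1)) (σ : Γ(K, U.1)),
      x ∈ U.1 ∧ GenOn L g ∧ GenOn K σ ∧ I.ideal U = Ideal.span {val I σ} := by
    intro x
    obtain ⟨U₁, hx₁, a, ha, hI₁⟩ := hI x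
    obtain ⟨W, e, hxW, he⟩ := TwistLib.exists_genOn hL x
    obtain ⟨b, hb, hxb⟩ := QCohLib.exists_basicOpen_nhd U₁.2 hxW hx₁
    let V : X.affineOpens := X.affineBasicOpen b
    have h₁ : V.1 ≤ U₁.1 := X.basicOpen_le b
    have hIV : I.ideal V = Ideal.span {X.presheaf.map (homOfLE h₁).op a} := by
      rw [← I.map_ideal (U := V) (V := U₁) h₁, hI₁, Ideal.map_span, Set.image_singleton]
      rfl
    have ha' : X.presheaf.map (homOfLE h₁).op a ∈ nonZeroDivisors Γ(X, V.1) :=
      haveI := U₁.2.isLocalization_basicOpen b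
      IsLocalization.map_nonZeroDivisors_le (Submonoid.powers b) Γ(X, X.basicOpen b) (Submonoid.mem_map_of_mem _ ha)
    obtain ⟨σ, hσ⟩ := IntMultLib.exists_section I V (hIV ▸ Ideal.mem_span_singleton_self _)
    refine ⟨V, res L hb e, σ, hxb, he.res hb, SurfNumLib.genOn_of_generator I V ha' hIV hσ, ?_⟩
    exact hIV.trans (congrArg (fun t => Ideal.span {t}) hσ.symm)
  have hprime : ∀ (U : X.affineOpens) [Nonempty ↥U.1] (σ : Γ(K, U.1)), z ∈ U.1 →
      I.ideal U = Ideal.span {val I σ} → GenOn K σ → Prime (val I σ) := by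
    intro U _ σ hz hIU hσ
    haveI : IsDomain Γ(X, U.1) := isDomain_sec _ hz
    rcases ideal_cases I U with ⟨-, hP⟩ | ⟨h, -⟩
    swap; · exact absurd hz h
    rw [hIU] at hP
    refine (Ideal.span_singleton_prime fun h0 => ?_).1 hP
    refine one_ne_zero (α := Γ(X, U.1)) ((hσ U.1 le_rfl).1 ?_)
    simp only [AmpleLib.res_refl]
    rw [one_smul, zero_smul]
    exact IntMultLib.idealModι_app_injective I U.1 (h0.trans (map_zero ((ClSub.idealModι I).app U.1).hom).symm)
  -- the multiplicity
  obtain ⟨U₀, g₀, σ₀, hz₀, hg₀, hσ₀, hI₀⟩ := hbase z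
  haveI : Nonempty ↥U₀.1 := ⟨⟨z, hz₀⟩⟩
  haveI : IsDomain Γ(X, U₀.1) := isDomain_sec _ hz₀
  obtain ⟨c₀, hc₀, hT₀, hR₀⟩ := hchart U₀ g₀ hg₀
  obtain ⟨m, hm, hmA⟩ := exists_associated_pow (hprime U₀ σ₀ hz₀ hI₀ hσ₀) (hR₀.symm.trans hI₀)
  have hall : ∀ x : X, ∃ (U : X.affineOpens) (g : Γ(L, U.1)) (σ : Γ(K, U.1)),
      x ∈ U.1 ∧ GenOn L g ∧ GenOn K σ ∧ I.ideal U = Ideal.span {val I σ} ∧
      MeroLib.secOn s U.1 = val I σ ^ m • g ∧ I₀.ideal U = Ideal.span {val I σ ^ m} := by
    intro x
    obtain ⟨U, g, σ, hxU, hg, hσ, hIU⟩ := hbase x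
    haveI : Nonempty ↥U.1 := ⟨⟨x, hxU⟩⟩
    haveI : IsDomain Γ(X, U.1) := isDomain_sec _ hxU
    obtain ⟨c, hc, hT, hR⟩ := hchart U g hg
    suffices hA : Associated c (val I σ ^ m) by
      obtain ⟨w, hw⟩ := hA.symm
      refine ⟨U, (w : Γ(X, U.1)) • g, σ, hxU, ?_, hσ, hIU, ?_, ?_⟩
      · intro V hV
        have hu : IsUnit (X.presheaf.map (homOfLE hV).op (w : Γ(X, U.1))) := w.isUnit.map _
        have h1 := (hg V hV).comp hu.unit.mulRight.bijective
        convert h1 using 1
        funext r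
        simp only [Function.comp_apply, res_smul, smul_smul, Units.mulRight_apply, IsUnit.unit_spec]
      · rw [smul_smul, hw, hc]
      · rw [hT, Ideal.span_singleton_eq_span_singleton]
        exact Associated.symm ⟨w, hw⟩
    rcases ideal_cases I U with ⟨hzU, -⟩ | ⟨-, htop⟩
    · obtain ⟨n, -, hnA⟩ := exists_associated_pow (hprime U σ hzU hIU hσ) (hR.symm.trans hIU)
      obtain ⟨q, q₀, hq, hzq⟩ := exists_basicOpen_le_affine_inter U.2 U₀.2 z ⟨hzU, hz₀⟩
      let V : X.affineOpens := X.affineBasicOpen q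
      have h₁ : V.1 ≤ U.1 := X.basicOpen_le q
      have h₀ : V.1 ≤ U₀.1 := hq.le.trans (X.basicOpen_le q₀)
      haveI : Nonempty ↥V.1 := ⟨⟨z, hzq⟩⟩
      haveI : IsDomain Γ(X, V.1) := isDomain_sec _ (show z ∈ V.1 from hzq)
      have hρ : ∀ (J : X.IdealSheafData) (U' : X.affineOpens) (h : V.1 ≤ U'.1) (t : Γ(X, U'.1)),
          J.ideal U' = Ideal.span {t} → J.ideal V = Ideal.span {X.presheaf.map (homOfLE h).op t} :=
        fun J U' h t ht => by
          rw [← J.map_ideal (U := V) (V := U') h, ht, Ideal.map_span, Set.image_singleton]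
          rfl
      have hf : Associated (X.presheaf.map (homOfLE h₁).op (val I σ)) (X.presheaf.map (homOfLE h₀).op (val I σ₀)) :=
        Ideal.span_singleton_eq_span_singleton.1 ((hρ I U h₁ _ hIU).symm.trans (hρ I U₀ h₀ _ hI₀))
      have hcc : Associated (X.presheaf.map (homOfLE h₁).op c) (X.presheaf.map (homOfLE h₀).op c₀) :=
        Ideal.span_singleton_eq_span_singleton.1 ((hρ I₀ U h₁ _ hT).symm.trans (hρ I₀ U₀ h₀ _ hT₀))
      have hnu : ¬ IsUnit (X.presheaf.map (homOfLE h₀).op (val I σ₀)) := fun hu =>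
        not_mem_support_of_ideal_eq_top I V ((hρ I U₀ h₀ _ hI₀).trans (Ideal.span_singleton_eq_top.2 hu))
          (show z ∈ V.1 from hzq) hzS
      have hne : X.presheaf.map (homOfLE h₀).op (val I σ₀) ≠ 0 := fun h0 =>
        (hprime U₀ σ₀ hz₀ hI₀ hσ₀).ne_zero (@map_injective_of_isIntegral X _ _ _ (homOfLE h₀) ⟨⟨z, hzq⟩⟩ _ _ (h0.trans (map_zero _).symm))
      have hA1 : Associated (X.presheaf.map (homOfLE h₀).op (val I σ₀) ^ n)
          (X.presheaf.map (homOfLE h₀).op (val I σ₀) ^ m) := by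
        have e1 := hnA.map (X.presheaf.map (homOfLE h₁).op).hom
        have e2 := hmA.map (X.presheaf.map (homOfLE h₀).op).hom
        rw [map_pow] at e1 e2
        exact ((hf.pow_pow (n := n)).symm.trans e1.symm).trans (hcc.trans e2)
      have hnm : n = m := by
        rcases lt_trichotomy n m with hlt | heq | hlt
        · exfalso
          obtain ⟨u, hu⟩ := hA1.symm
          obtain ⟨d, rfl⟩ := Nat.exists_eq_add_of_lt hlt
          rw [Nat.add_assoc, pow_add, mul_assoc] at hu
          have := (mul_right_eq_self₀.1 hu).resolve_right (pow_ne_zero _ hne)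
          exact hnu (isUnit_of_dvd_one ((dvd_pow_self _ d.succ_ne_zero).trans ⟨u, this.symm⟩))
        · exact heq
        · exfalso
          obtain ⟨u, hu⟩ := hA1
          obtain ⟨d, rfl⟩ := Nat.exists_eq_add_of_lt hlt
          rw [Nat.add_assoc, pow_add, mul_assoc] at hu
          have := (mul_right_eq_self₀.1 hu).resolve_right (pow_ne_zero _ hne)
          exact hnu (isUnit_of_dvd_one ((dvd_pow_self _ d.succ_ne_zero).trans ⟨u, this.symm⟩))
      exact hnm ▸ hnA
    · have hfu : IsUnit (val I σ) := Ideal.span_singleton_eq_top.1 (hIU.symm.trans htop)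
      have hcu : IsUnit c := Ideal.span_singleton_eq_top.1 (Ideal.radical_eq_top.1 (hR.symm.trans htop))
      exact (associated_one_iff_isUnit.2 hcu).trans (associated_one_iff_isUnit.2 (hfu.pow m)).symm
  choose U g σ hxU hg hσ hIU hsec hid using hall
  refine ⟨z, hdim, K, hK, m, hm, ?_, fun h1 => ?_⟩
  · refine ⟨(AmpleThLib.exists_iso_gens (fun x => (U x).1) (fun x => shT (g x) (pS (σ x) m))
      (fun x => (1 : Γ(X, (U x).1))) (fun x => ⟨x, hxU x⟩)
      (fun x => AmpleThLib.shT_genOn (hg x) (AmpleThLib.pS_genOn (hσ x) m)) (fun x => AmpleLib.one_genOn _)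
      fun a b V ha hb => ⟨1, ?_, ?_⟩).choose⟩
    · rw [one_smul]
      obtain ⟨u, hu⟩ := (hg a V ha).2 (res L hb (g b))
      obtain ⟨v, hv⟩ := (hσ a V ha).2 (res K hb (σ b))
      dsimp only at hu hv
      have h2 : X.presheaf.map (homOfLE hb).op (val I (σ b)) = v * X.presheaf.map (homOfLE ha).op (val I (σ a)) := by
        rw [← val_res, ← val_res, ← val_smul, hv]
      have h3 : v ^ m * u = 1 := by
        rcases isEmpty_or_nonempty ↥V with hV | hV
        · haveI : Subsingleton Γ(X, V) := by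
            rw [show V = ⊥ from Opens.ext (Set.eq_empty_iff_forall_notMem.2 fun y hy => hV.false ⟨y, hy⟩)]
            infer_instance
          exact Subsingleton.elim _ _
        haveI : IsDomain Γ(X, V) := isDomain_sec V hV.some.2
        have hfne : X.presheaf.map (homOfLE ha).op (val I (σ a)) ≠ 0 := fun h0 => by
          refine one_ne_zero (α := Γ(X, V)) ((hσ a V ha).1 (a₁ := (1 : Γ(X, V))) (a₂ := 0) ?_)
          simp only [one_smul, zero_smul]
          refine IntMultLib.idealModι_app_injective I V ?_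
          exact ((val_res I ha (σ a)).trans h0).trans (map_zero ((ClSub.idealModι I).app V).hom).symm
        have e1 := (MeroLib.secOn_res s ha).symm
        rw [hsec a, res_smul, map_pow] at e1
        have e2 := (MeroLib.secOn_res s hb).symm
        rw [hsec b, res_smul, map_pow, h2, ← hu, smul_smul] at e2
        have e3 := (hg a V ha).1 (e2.symm.trans e1)
        rw [mul_pow] at e3
        exact mul_right_cancel₀ (pow_ne_zero m hfne) ((mul_right_comm _ u _).trans e3 |>.trans (one_mul _).symm)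
      rw [AmpleLib.shT_res, AmpleLib.shT_res, AmpleThLib.pS_res, AmpleThLib.pS_res, ← hu, ← hv, AmpleThLib.pS_smul,
        AmpleLib.shT_smul, mul_comm, h3, one_smul]
    · rw [one_smul]
      exact (map_one (X.presheaf.map (homOfLE ha).op).hom).trans (map_one (X.presheaf.map (homOfLE hb).op).hom).symm
  · have he : I₀ = I := Scheme.IdealSheafData.ext_of_iSup_eq_top U
      (top_le_iff.1 fun x _ => Opens.mem_iSup.2 ⟨x, hxU x⟩) fun x => by
        rw [hid x, hIU x, h1, pow_one]
    show IsReduced I₀.subscheme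
    rw [he]
    infer_instance

end ThetaRedLib

end
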